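import Mathlib
import Cfsg.Prelude.Def_LieExceptional
import Cfsg.Prelude.Def_Exceptional
import Cfsg.Prelude.Def_LieRecognition
import Cfsg.Prelude.Def_Characters

/-!
# Order of a simple Zassenhaus group with non-abelian 2-kernel (helper95, S0347 / S1147 / S0340)

Common definitions.  `ZT a Q` = the hypotheses of S0347; `ZTFacts a b Q q n` = the structural
consequences (Part A) that Parts B and C start from.
-/

set_option autoImplicit false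

namespace Cfsg.Agent.Helper95.SzOrd

open MulAction

variable {G Ω : Type*} [Group G] [MulAction G Ω]

/-- The hypotheses of S0347: `G` simple Zassenhaus on `Ω`, `Q` a non-abelian normal `2`-subgroup of
the stabiliser of `a`, regular on the other points. -/
structure ZT (a : Ω) (Q : Subgroup G) : Prop where
  hZ : Cfsg.IsZassenhausGroup G Ω
  simple : IsSimpleGroup G
  Qle : Q ≤ stabilizer G a
  Qnorm : ∀ h ∈ stabilizer G a, ∀ u ∈ Q, h * u * h⁻¹ ∈ Q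
  reg : ∀ y z : Ω, y ≠ a → z ≠ a → ∃! u : Q, (u : G) • y = z
  two : IsPGroup 2 Q
  nonab : ∃ u ∈ Q, ∃ v ∈ Q, u * v ≠ v * u

/-- The two-point stabiliser. -/
abbrev Kab (G : Type*) [Group G] {Ω : Type*} [MulAction G Ω] (a b : Ω) : Subgroup G :=
  stabilizer G a ⊓ stabilizer G b

/-- The centre of `Q`, as a subgroup of `G`. -/
def Zs (Q : Subgroup G) : Subgroup G := (Subgroup.center Q).map Q.subtype

theorem mem_Zs {Q : Subgroup G} {z : G} :
    z ∈ Zs Q ↔ z ∈ Q ∧ ∀ v ∈ Q, v * z = z * v := by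
  unfold Zs
  constructor
  · rintro ⟨x, hx, rfl⟩
    refine ⟨x.2, fun v hv => ?_⟩
    have := Subgroup.mem_center_iff.mp hx ⟨v, hv⟩
    exact congrArg Subtype.val this
  · rintro ⟨hz, hc⟩
    refine ⟨⟨z, hz⟩, ?_, rfl⟩
    rw [SetLike.mem_coe, Subgroup.mem_center_iff]
    intro v
    exact Subtype.ext (hc v v.2)

/-- Structural facts (Part A).  `d = |G_{ab}|`, `q = d + 1 = |Z(Q)| = 2 ^ n`, `|Q| ∈ {q², q³}`. -/
structure ZTFacts (a b : Ω) (Q : Subgroup G) (q n : ℕ) : Prop where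
  zt : ZT a Q
  hab : a ≠ b
  hn : 2 ≤ n
  hq : q = 2 ^ n
  card_K : Nat.card (Kab G a b) + 1 = q
  card_Zs : Nat.card (Zs Q) = q
  card_Q : Nat.card Q = q ^ 2 ∨ Nat.card Q = q ^ 3
  card_Ω : Nat.card Ω = Nat.card Q + 1
  card_G : Nat.card G = (Nat.card Q + 1) * Nat.card Q * (q - 1)
  /-- non-identity elements of `Q` fix only `a` -/
  Q_fix : ∀ u ∈ Q, u ≠ 1 → ∀ c : Ω, u • c = c → c = a
  /-- `G_a = Q K` -/
  stab_eq : ∀ h ∈ stabilizer G a, ∃ u ∈ Q, ∃ k ∈ Kab G a b, h = u * k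
  /-- `K` acts fixed-point-freely on `Q` -/
  K_fpf : ∀ k ∈ Kab G a b, k ≠ 1 → ∀ u ∈ Q, k * u * k⁻¹ = u → u = 1
  /-- the involutions of `Q` are the non-identity elements of `Z(Q)` -/
  invol_Q : ∀ u ∈ Q, (u ≠ 1 ∧ u * u = 1) ↔ (u ≠ 1 ∧ u ∈ Zs Q)
  /-- `K` is transitive on the involutions of `Q` -/
  K_trans : ∀ s ∈ Zs Q, ∀ t ∈ Zs Q, s ≠ 1 → t ≠ 1 → ∃ k ∈ Kab G a b, k * s * k⁻¹ = t
  sq_mem : ∀ x ∈ Q, x * x ∈ Zs Q
  comm_mem : ∀ x ∈ Q, ∀ y ∈ Q, x⁻¹ * y⁻¹ * x * y ∈ Zs Q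
  pow_four : ∀ x ∈ Q, x ^ 4 = 1
  /-- number of involutions of `G` -/
  card_invol : Nat.card {t : G // orderOf t = 2} = (q - 1) * (Nat.card Q + 1)
  /-- the `2`-elements of `G_a` lie in `Q` -/
  two_elt_mem : ∀ g : G, g • a = a → (∃ k : ℕ, g ^ (2 ^ k) = 1) → g ∈ Q

/-- fixed-point-free elements -/
def IsFpf (Ω : Type*) [MulAction G Ω] (g : G) : Prop := ∀ c : Ω, g • c ≠ c

/-- strongly real fixed-point-free elements -/
def IsSReal (Ω : Type*) [MulAction G Ω] (u : G) : Prop :=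
  IsFpf Ω u ∧ ∃ s : G, orderOf s = 2 ∧ s * u * s⁻¹ = u⁻¹

/-- `g` fixes exactly two points -/
def FixTwo (Ω : Type*) [MulAction G Ω] (g : G) : Prop :=
  ∃ c c' : Ω, c ≠ c' ∧ g • c = c ∧ g • c' = c' ∧ g ≠ 1

/-- `g ≠ 1` fixes exactly one point -/
def FixOne (Ω : Type*) [MulAction G Ω] (g : G) : Prop :=
  g ≠ 1 ∧ ∃ c : Ω, g • c = c ∧ ∀ c' : Ω, g • c' = c' → c' = c

end Cfsg.Agent.Helper95.SzOrd
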