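import Cfsg.Agent.Helper95.SzOrd.Defs

/-!
# Part B of the Suzuki order theorem (helper95): the orbit sets `Orb u`
-/

set_option autoImplicit false

namespace Cfsg.Agent.Helper95.SzOrd

variable {G : Type*} [Group G]

/-- The union of the conjugates of `C_G(u) \ {1}`. -/
def Orb (u : G) : Set G :=
  {v | v ≠ 1 ∧ ∃ g : G, g * v * g⁻¹ ∈ Subgroup.centralizer ({u} : Set G)}

end Cfsg.Agent.Helper95.SzOrd
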