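import Cfsg.Agent.Helper95.SzOrd.PiecesNum
import Cfsg.Agent.Helper37.SzOrdCSQ
import Cfsg.Agent.Helper42.SzOrdCIRRH2
import Cfsg.Agent.Helper55.SzOrdCRES
import Cfsg.Agent.Helper75.SzOrdCPART
import Cfsg.Agent.Helper75.SzOrdCGRAM

/-!
# Part C of the Suzuki order theorem (helper95): `|Q| = q³` is impossible

Assembly of the numerical core `core_false` (helper79) from the character-theoretic pieces
`CSQ` (helper37), `CIRRH1`, `CIRRH2` (helper42), `CRES` (helper55), `CPART`, `CGRAM` (helper75).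
-/

set_option autoImplicit false

namespace Cfsg.Agent.Helper95.SzOrd

open Cfsg MulAction Cfsg.Agent.Helper75
open scoped ComplexConjugate

variable {G Ω : Type*} [Group G] [Fintype G] [MulAction G Ω] [Fintype Ω]
variable {a b : Ω} {Q : Subgroup G} {q n : ℕ}

theorem fsIndF_trivIrr : Cfsg.Agent.Helper74.fsIndF (trivIrr G : G → ℂ) = 1 := by
  unfold Cfsg.Agent.Helper74.fsIndF trivIrr
  simp

theorem partC (F : ZTFacts a b Q q n) (hN : Nat.card Q = q ^ 3) : False := by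
  classical
  haveI : Fintype (HQ Q) := Fintype.ofFinite _
  haveI : Fintype (IrrCharacter G) := Cfsg.Agent.Helper74.irrFintype G
  have hn := F.hn
  have hq := F.hq
  have hq4 : 4 ≤ q := by
    rw [hq]
    calc 4 = 2 ^ 2 := rfl
      _ ≤ 2 ^ n := Nat.pow_le_pow_right (by norm_num) hn
  have hq1C : ((q - 1 : ℕ) : ℂ) = (q : ℂ) - 1 := by
    rw [Nat.cast_sub (by omega : 1 ≤ q)]; simp
  have hqne : (q : ℂ) - 1 ≠ 0 := by
    intro h
    have h2 : (q : ℂ) = 1 := by linear_combination h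
    have : (q : ℕ) = 1 := by exact_mod_cast h2
    omega
  obtain ⟨hI2, hI3⟩ := Cfsg.Agent.Helper42.SzOrd.CIRRH2 F hN
  choose f hfdeg hfcase using Cfsg.Agent.Helper42.SzOrd.CIRRH1 F hN
  obtain ⟨St, L, lam, hL, hSt, hlam, hpart⟩ := Cfsg.Agent.Helper75.SzOrd.CPART F hN
  choose m hm using fun χ : XQ Q => (Cfsg.Agent.Helper55.SzOrd.CRES F hN χ).1
  have hres : ∀ (χ : XQ Q) (h : HQ Q), (χ.1 : G → ℂ) (h : G)
      = ∑ φ : SQ Q, (m χ φ : ℂ) * (φ.1 : HQ Q → ℂ) h := by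
    intro χ h
    rw [(Cfsg.Agent.Helper55.SzOrd.CRES F hN χ).2.1 h]
    exact Finset.sum_congr rfl fun φ _ => by rw [hm]
  -- the set `S0`
  let S0 : Finset (SQ Q) := Finset.univ.filter (fun φ => TrivZ Q (φ.1 : HQ Q → ℂ))
  have hS0mem : ∀ φ : SQ Q, φ ∈ S0 ↔ TrivZ Q (φ.1 : HQ Q → ℂ) := by
    intro φ; simp [S0]
  have hS0 : S0.card = q + 1 := by
    rw [← hI2, Nat.card_eq_fintype_card, Fintype.card_subtype]
  have hf0 : ∀ θ ∈ S0, f θ = 1 := by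
    intro θ hθ
    rcases hfcase θ with ⟨h1, _⟩ | ⟨_, h2, _⟩
    · exact h1
    · exact absurd ((hS0mem θ).1 hθ) h2
  have hf1 : ∀ φ ∉ S0, ∃ k : ℕ, f φ = 2 ^ k := by
    intro φ hφ
    rcases hfcase φ with ⟨_, h2⟩ | ⟨h1, _, _⟩
    · exact absurd ((hS0mem φ).2 h2) hφ
    · exact h1
  have hfz : ∀ φ ∉ S0, ∀ z : HQ Q, (z : G) ∈ Zs Q → z ≠ 1 →
      (φ.1 : HQ Q → ℂ) z = -(f φ : ℂ) := by
    intro φ hφ
    rcases hfcase φ with ⟨_, h2⟩ | ⟨_, _, h3⟩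
    · exact absurd ((hS0mem φ).2 h2) hφ
    · exact h3
  have hsq : ∑ φ ∈ S0ᶜ, (f φ) ^ 2 = q ^ 2 := by
    rw [← hI3 f hfdeg, Finset.sum_ite, Finset.sum_const_zero, zero_add]
    refine Finset.sum_congr ?_ (fun _ _ => rfl)
    ext φ; simp [S0]
  -- Frobenius–Schur indicators
  have hνex : ∀ χ : IrrCharacter G, ∃ k : ℤ,
      Cfsg.Agent.Helper74.fsIndF (χ : G → ℂ) = (k : ℂ) ∧ (k = 1 ∨ k = 0 ∨ k = -1) := by
    intro χ
    rcases Cfsg.Agent.Helper74.fsIndF_cases χ with h | ⟨h | h, _⟩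
    · exact ⟨0, by simp [h], by simp⟩
    · exact ⟨1, by simp [h], by simp⟩
    · exact ⟨-1, by simp [h], by simp⟩
  choose ν hν1 hν2 using hνex
  -- Gram
  have hGram : ∀ φ φ' : SQ Q, (2 : ℤ) * ∑ χ : XQ Q, (m χ φ : ℤ) * (m χ φ' : ℤ)
      = (if φ = φ' then 2 else 0) + (f φ : ℤ) * (f φ' : ℤ) * ((q : ℤ) - 2) := by
    intro φ φ'
    have h := Cfsg.Agent.Helper75.SzOrd.CGRAM F hN φ φ'
    simp only [hm, hfdeg, hq1C] at h
    rw [mul_div_cancel_left₀ _ hqne, mul_div_cancel_left₀ _ hqne] at h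
    have h' : (2 : ℂ) * ∑ χ : XQ Q, (m χ φ : ℂ) * (m χ φ' : ℂ)
        = (if φ = φ' then 2 else 0) + (f φ : ℂ) * (f φ' : ℂ) * ((q : ℂ) - 2) := by
      rw [h]
      by_cases hφ : φ = φ'
      · simp only [if_pos hφ]; ring
      · simp only [if_neg hφ]; ring
    by_cases hφ : φ = φ'
    · simp only [if_pos hφ] at h' ⊢
      exact_mod_cast h'
    · simp only [if_neg hφ] at h' ⊢
      exact_mod_cast h'
  -- degrees of discrete characters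
  have hdeg : ∀ χ : XQ Q, (χ.1 : G → ℂ) 1
      = (((q : ℤ) - 1) * ∑ φ : SQ Q, (m χ φ : ℤ) * (f φ : ℤ) : ℤ) := by
    intro χ
    have h := hres χ 1
    rw [show ((1 : HQ Q) : G) = 1 from rfl] at h
    rw [h]
    push_cast
    rw [Finset.mul_sum]
    refine Finset.sum_congr rfl fun φ _ => ?_
    rw [hfdeg, hq1C]; ring
  -- a non-trivial element of `Z(Q)`
  obtain ⟨z, hzZ, hz1⟩ : ∃ z ∈ Zs Q, z ≠ 1 := by
    by_contra hcon
    push Not at hcon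
    have hbot : Zs Q = ⊥ := by
      rw [eq_bot_iff]; intro z hz; rw [Subgroup.mem_bot]; exact hcon z hz
    have := F.card_Zs
    rw [hbot] at this
    simp at this
    omega
  have hzQ : z ∈ Q := (mem_Zs.1 hzZ).1
  have hzH : z ∈ Subgroup.normalizer (Q : Set G) := Subgroup.le_normalizer hzQ
  have hzval : ∀ χ : XQ Q, (χ.1 : G → ℂ) z
      = ((((q : ℤ) - 1) * (∑ θ ∈ S0, (m χ θ : ℤ))
          - ∑ φ ∈ S0ᶜ, (m χ φ : ℤ) * (f φ : ℤ) : ℤ) : ℂ) := by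
    intro χ
    have h := hres χ ⟨z, hzH⟩
    rw [show ((⟨z, hzH⟩ : HQ Q) : G) = z from rfl] at h
    rw [h, ← Finset.sum_add_sum_compl S0]
    push_cast
    rw [Finset.mul_sum, sub_eq_add_neg, ← Finset.sum_neg_distrib]
    congr 1
    · refine Finset.sum_congr rfl fun θ hθ => ?_
      have h1 : (θ.1 : HQ Q → ℂ) ⟨z, hzH⟩ = (θ.1 : HQ Q → ℂ) 1 :=
        (hS0mem θ).1 hθ ⟨z, hzH⟩ hzZ
      rw [h1, hfdeg, hf0 θ hθ, hq1C]; push_cast; ring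
    · refine Finset.sum_congr rfl fun φ hφ => ?_
      have hφ' : φ ∉ S0 := Finset.mem_compl.1 hφ
      have hne : (⟨z, hzH⟩ : HQ Q) ≠ 1 := by
        intro h0
        exact hz1 (congrArg Subtype.val h0)
      rw [hfz φ hφ' ⟨z, hzH⟩ hzZ hne]; ring
  obtain ⟨hsq1, hsq2⟩ := Cfsg.Agent.Helper37.SzOrd.CSQ F hN
  -- FS at 1
  have hFS1 : (1 : ℤ) + ν St * (q : ℤ) ^ 3 + (∑ i, ν (lam i)) * ((q : ℤ) ^ 3 + 1)
      + ∑ χ : XQ Q, ν χ.1 * (((q : ℤ) - 1) * ∑ φ, (m χ φ : ℤ) * (f φ : ℤ))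
      = 1 + ((q : ℤ) ^ 3 + 1) * ((q : ℤ) - 1) := by
    have h := Cfsg.Agent.Helper74.sqrtCount_eq_sum (G := G) 1
    rw [hpart (fun χ => Cfsg.Agent.Helper74.fsIndF (χ : G → ℂ) * (χ : G → ℂ) 1)] at h
    unfold Cfsg.Agent.Helper74.sqrtCount at h
    rw [hsq1, fsIndF_trivIrr, hSt.1] at h
    simp only [hν1, fun i => (hlam i).1, hdeg] at h
    have h1 : ((trivIrr G : IrrCharacter G) : G → ℂ) 1 = 1 := rfl
    rw [h1] at h
    have h2 : ((1 + (q - 1) * (q ^ 3 + 1) : ℕ) : ℂ) = 1 + ((q : ℂ) - 1) * ((q : ℂ) ^ 3 + 1) := by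
      push_cast [hq1C]; ring
    rw [h2] at h
    have h3 : ((1 : ℤ) + ν St * (q : ℤ) ^ 3 + (∑ i, ν (lam i)) * ((q : ℤ) ^ 3 + 1)
      + ∑ χ : XQ Q, ν χ.1 * (((q : ℤ) - 1) * ∑ φ, (m χ φ : ℤ) * (f φ : ℤ)) : ℂ)
      = ((1 + ((q : ℤ) ^ 3 + 1) * ((q : ℤ) - 1) : ℤ) : ℂ) := by
      push_cast
      push_cast at h
      rw [Finset.sum_mul]
      linear_combination -h
    exact_mod_cast h3
  -- FS at z
  have hFS2 : (1 : ℤ) + (∑ i, ν (lam i))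
      + ∑ χ : XQ Q, ν χ.1 * (((q : ℤ) - 1) * (∑ θ ∈ S0, (m χ θ : ℤ))
          - ∑ φ ∈ S0ᶜ, (m χ φ : ℤ) * (f φ : ℤ))
      = (q : ℤ) * ((q : ℤ) + 1) := by
    have h := Cfsg.Agent.Helper74.sqrtCount_eq_sum (G := G) z
    rw [hpart (fun χ => Cfsg.Agent.Helper74.fsIndF (χ : G → ℂ) * (χ : G → ℂ) z)] at h
    unfold Cfsg.Agent.Helper74.sqrtCount at h
    rw [hsq2 z hzZ hz1, fsIndF_trivIrr, hSt.2 z hzQ hz1] at h
    simp only [hν1, fun i => (hlam i).2 z hzQ hz1, hzval] at h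
    have h1 : ((trivIrr G : IrrCharacter G) : G → ℂ) z = 1 := rfl
    rw [h1] at h
    have h3 : (((1 : ℤ) + (∑ i, ν (lam i))
      + ∑ χ : XQ Q, ν χ.1 * (((q : ℤ) - 1) * (∑ θ ∈ S0, (m χ θ : ℤ))
          - ∑ φ ∈ S0ᶜ, (m χ φ : ℤ) * (f φ : ℤ)) : ℤ) : ℂ)
      = (((q : ℤ) * ((q : ℤ) + 1) : ℤ) : ℂ) := by
      push_cast
      push_cast at h
      simp only [mul_one, one_mul, mul_zero, add_zero] at h
      linear_combination -h
    exact_mod_cast h3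
  have hfaith : ∀ χ : XQ Q, ∃ φ, φ ∉ S0 ∧ 1 ≤ m χ φ := by
    intro χ
    obtain ⟨φ, hφ1, hφ2⟩ := (Cfsg.Agent.Helper55.SzOrd.CRES F hN χ).2.2
    refine ⟨φ, fun h => hφ1 ((hS0mem φ).1 h), ?_⟩
    rw [hm] at hφ2
    have : m χ φ ≠ 0 := by
      intro h0; rw [h0] at hφ2; simp at hφ2
    omega
  exact core_false n q hn hq S0 hS0 m f hf0 hf1 hsq (fun χ => ν χ.1) (fun χ => hν2 χ.1)
    (ν St) (hν2 St) L hL (fun i => ν (lam i)) (fun i => hν2 (lam i)) hGram hFS1 hFS2 hfaith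

end Cfsg.Agent.Helper95.SzOrd
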