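import Cfsg.Agent.Helper95.SzOrd.PiecesAB
import Cfsg.Agent.Helper95.SzOrd.PartC

/-!
# The Suzuki order theorem (helper95): assembly

`partA` (structure), `partB` (`|Q| = q²` forces `n` odd), `partC` (`|Q| = q³` impossible).
-/

set_option autoImplicit false

namespace Cfsg.Agent.Helper95.SzOrd

open Cfsg MulAction

variable {G Ω : Type*} [Group G] [Fintype G] [MulAction G Ω] [Fintype Ω]

/-- The Suzuki order theorem, structural form. -/
theorem suzuki_main {a b : Ω} {Q : Subgroup G} (h : ZT a Q) (hab : a ≠ b) :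
    ∃ (q n : ℕ), ZTFacts a b Q q n ∧ Nat.card Q = q ^ 2 ∧ Odd n := by
  obtain ⟨q, n, F⟩ := partA' h hab
  rcases F.card_Q with hN | hN
  · exact ⟨q, n, F, hN, partB F hN⟩
  · exact (partC F hN).elim

theorem card_center_eq_card_Zs (Q : Subgroup G) :
    Nat.card (Subgroup.center Q) = Nat.card (Zs Q) := by
  unfold Zs
  exact Nat.card_congr
    ((Subgroup.center Q).equivMapOfInjective Q.subtype Q.subtype_injective).toEquiv

end Cfsg.Agent.Helper95.SzOrd
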