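import Cfsg.Agent.Helper95.SzOrd.Defs
import Cfsg.Agent.Helper79.FeitZGroup
import Cfsg.Agent.Helper74.FSCount

/-!
# Part C of the Suzuki order theorem (helper95): definitions for the character count

`Q` is the Frobenius kernel of the point stabiliser `H = N_G(Q)`; `tfS Q` (helper75) is the set of
irreducible characters of `H` whose kernel does not contain `Q` ("relevant characters").
-/

set_option autoImplicit false

namespace Cfsg.Agent.Helper95.SzOrd

open Cfsg Cfsg.Agent.Helper75
open scoped ComplexConjugate

variable {G : Type*} [Group G] [Fintype G] (Q : Subgroup G)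

/-- The normaliser of `Q` (the point stabiliser), as a type. -/
abbrev HQ : Type _ := ↥(Subgroup.normalizer (Q : Set G))

/-- Restriction of a function on `G` to `H = N_G(Q)`. -/
def resH (χ : G → ℂ) : HQ Q → ℂ := fun h => χ (h : G)

/-- The relevant irreducible characters of `H`. -/
abbrev SQ : Type _ := {φ : IrrCharacter (HQ Q) // (φ : HQ Q → ℂ) ∈ tfS Q}

noncomputable instance instFintypeSQ : Fintype (SQ Q) := by
  classical
  exact @Subtype.fintype _ _ _ (Cfsg.Agent.Helper74.irrFintype (HQ Q))

noncomputable instance instDecEqSQ : DecidableEq (SQ Q) := Classical.decEq _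

/-- A "discrete" character of `G`: irreducible, and no irreducible constituent of its restriction
to `H` is trivial on `Q`. -/
def IsDiscrete [Fintype (HQ Q)] (χ : G → ℂ) : Prop :=
  IsIrrCharacter G χ ∧ ∀ μ : HQ Q → ℂ, IsIrrCharacter (HQ Q) μ → μ ∉ tfS Q →
    classInner (resH Q χ) μ = 0

/-- The discrete characters, as a type. -/
abbrev XQ [Fintype (HQ Q)] : Type _ := {χ : IrrCharacter G // IsDiscrete Q (χ : G → ℂ)}

noncomputable instance instFintypeXQ [Fintype (HQ Q)] : Fintype (XQ Q) := by
  classical
  exact @Subtype.fintype _ _ _ (Cfsg.Agent.Helper74.irrFintype G)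

noncomputable instance instDecEqXQ [Fintype (HQ Q)] : DecidableEq (XQ Q) := Classical.decEq _

/-- The multiplicity of `φ` in `χ|_H`. -/
noncomputable def mult [Fintype (HQ Q)] (χ : G → ℂ) (φ : HQ Q → ℂ) : ℂ :=
  classInner (resH Q χ) φ

/-- `φ` is trivial on `Z(Q)`. -/
def TrivZ (φ : HQ Q → ℂ) : Prop := ∀ z : HQ Q, (z : G) ∈ Zs Q → φ z = φ 1

/-- The trivial character of `G` as an element of `IrrCharacter G`. -/
noncomputable def trivIrr (G : Type*) [Group G] : IrrCharacter G :=
  ⟨fun _ => (1 : ℂ), Cfsg.Agent.Helper79.isIrrCharacter_one⟩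

end Cfsg.Agent.Helper95.SzOrd
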