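import Cfsg.Agent.Helper49.SzOrdBAR2
import Cfsg.Agent.Helper79.SzOrdCNUM

/-!
# Suzuki order theorem (helper95): the numerical pieces, collected

`odd_of_pattern` (helper49, with `vieta` by helper79) and `core_false` (helper79), restated in this
namespace.
-/

set_option autoImplicit false

namespace Cfsg.Agent.Helper95.SzOrd

/-- (BAR) The arithmetic end of Part B (proved by helper49, Vieta descent by helper79). -/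
theorem odd_of_pattern (n q : ℕ) (hn : 2 ≤ n) (hq : q = 2 ^ n)
    (h : (q + 1 ∣ q ^ 2 + 1) ∨ (2 * q + 1 ∣ q ^ 2 + 1) ∨
      ∃ w w' : ℕ, w ∣ q ^ 2 + 1 ∧ w' ∣ q ^ 2 + 1 ∧ w + w' = 2 * q + 2) : Odd n :=
  Cfsg.Agent.Helper49.SzOrd.odd_of_pattern n q hn hq h

/-- (CNUM) The numerical core of Part C (proved by helper79). -/
theorem core_false (n q : ℕ) (hn : 2 ≤ n) (hq : q = 2 ^ n)
    {X : Type*} {S : Type*} [Fintype X] [Fintype S] [DecidableEq X] [DecidableEq S]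
    (S0 : Finset S) (hS0 : S0.card = q + 1)
    (m : X → S → ℕ) (f : S → ℕ) (hf0 : ∀ θ ∈ S0, f θ = 1)
    (hf1 : ∀ φ ∉ S0, ∃ k : ℕ, f φ = 2 ^ k)
    (hsq : ∑ φ ∈ S0ᶜ, (f φ) ^ 2 = q ^ 2)
    (ν : X → ℤ) (hν : ∀ χ, ν χ = 1 ∨ ν χ = 0 ∨ ν χ = -1)
    (νSt : ℤ) (hνSt : νSt = 1 ∨ νSt = 0 ∨ νSt = -1)
    (L : ℕ) (hL : 2 * L + 2 = q) (νL : Fin L → ℤ) (hνL : ∀ i, νL i = 1 ∨ νL i = 0 ∨ νL i = -1)
    (hGram : ∀ φ φ' : S, (2 : ℤ) * ∑ χ, (m χ φ : ℤ) * (m χ φ' : ℤ)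
      = (if φ = φ' then 2 else 0) + (f φ : ℤ) * (f φ' : ℤ) * ((q : ℤ) - 2))
    (hFS1 : (1 : ℤ) + νSt * (q : ℤ) ^ 3 + (∑ i, νL i) * ((q : ℤ) ^ 3 + 1)
      + ∑ χ, ν χ * (((q : ℤ) - 1) * ∑ φ, (m χ φ : ℤ) * (f φ : ℤ))
      = 1 + ((q : ℤ) ^ 3 + 1) * ((q : ℤ) - 1))
    (hFS2 : (1 : ℤ) + (∑ i, νL i)
      + ∑ χ, ν χ * (((q : ℤ) - 1) * (∑ θ ∈ S0, (m χ θ : ℤ)) - ∑ φ ∈ S0ᶜ, (m χ φ : ℤ) * (f φ : ℤ))
      = (q : ℤ) * ((q : ℤ) + 1))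
    (hfaith : ∀ χ : X, ∃ φ, φ ∉ S0 ∧ 1 ≤ m χ φ) : False :=
  Cfsg.Agent.Helper79.SzOrd.core_false n q hn hq S0 hS0 m f hf0 hf1 hsq ν hν νSt hνSt L hL νL hνL
    hGram hFS1 hFS2 hfaith

end Cfsg.Agent.Helper95.SzOrd
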