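import Cfsg.Agent.Helper95.SzOrd.DefsB
import Cfsg.Agent.Helper95.SzOrd.PiecesNum
import Cfsg.Agent.Helper41.SzOrdA2
import Cfsg.Agent.Helper65.SzOrdA3
import Cfsg.Agent.Helper2.SzOrdBEL
import Cfsg.Agent.Helper97.SzOrdBT1
import Cfsg.Agent.Helper81.SzOrdBPAIR3
import Cfsg.Agent.Helper23.SzOrdBORB
import Cfsg.Agent.Helper57.SzOrdBPAT
import Cfsg.Agent.Helper57.SzOrdBT2

/-!
# Suzuki order theorem (helper95): Parts A and B, collected

Part A (`partA'`): the structure `ZTFacts` from the hypotheses `ZT` — pieces by helper41 (A1, A2) and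
helper65 (A3).  Part B (`partB`): `|Q| = q²` forces `n` odd — pieces by helper2 (BEL, BKI),
helper97 (BOD, BT1), helper57 (BT2, BPAT), helper81 (BPAIR), helper23 (BORB), helper49 + helper79
(arithmetic).
-/

set_option autoImplicit false

namespace Cfsg.Agent.Helper95.SzOrd

open Cfsg MulAction

variable {G Ω : Type*} [Group G] [Fintype G] [MulAction G Ω] [Fintype Ω]

/-- (A3') by-product of (A3): `Q` is a Suzuki 2-group. -/
theorem A3_isSuzukiTwoGroup {a b : Ω} {Q : Subgroup G} (h : ZT a Q) (hab : a ≠ b) :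
    Cfsg.IsSuzukiTwoGroup Q := by
  obtain ⟨-, -, hA1⟩ := Cfsg.Agent.Helper41.SzOrd.A1_base h
  obtain ⟨-, -, hfpf⟩ := hA1 b hab
  obtain ⟨-, h3, -, hcardI, -, htrans, -⟩ := Cfsg.Agent.Helper41.SzOrd.A2_invol h hab
  haveI := h.simple
  have hcyc : IsCyclic ↥(Kab G a b) := (Cfsg.Agent.S0345.result h.hZ hab).1
  exact Cfsg.Agent.Helper65.SzOrd.A3_isSuzuki (Kab G a b) Q
    (fun k hk u hu => h.Qnorm k hk.1 u hu) h.two h.nonab hcyc hfpf (by rw [hcardI]; omega) htrans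

/-- (A4) assembly of Part A. -/
theorem partA' {a b : Ω} {Q : Subgroup G} (h : ZT a Q) (hab : a ≠ b) :
    ∃ (q n : ℕ), ZTFacts a b Q q n := by
  classical
  obtain ⟨hfix, hΩ, hb⟩ := Cfsg.Agent.Helper41.SzOrd.A1_base h
  obtain ⟨hstab, hG, hKfpf⟩ := hb b hab
  obtain ⟨hKodd, hK3, hinv, hinvQ, h2elt, hKtr, hcent⟩ :=
    Cfsg.Agent.Helper41.SzOrd.A2_invol h hab
  obtain ⟨q, n, hn, hq, hK, hZs, hQ, hiQ, hsq, hcomm, hp4⟩ :=
    Cfsg.Agent.Helper65.SzOrd.A3_suzuki h hab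
  have hK' : Nat.card (Kab G a b) = q - 1 := by omega
  refine ⟨q, n, ?_⟩
  refine
    { zt := h
      hab := hab
      hn := hn
      hq := hq
      card_K := hK
      card_Zs := hZs
      card_Q := hQ
      card_Ω := hΩ
      card_G := by rw [hG, hK']
      Q_fix := hfix
      stab_eq := hstab
      K_fpf := hKfpf
      invol_Q := hiQ
      K_trans := ?_
      sq_mem := hsq
      comm_mem := hcomm
      pow_four := hp4
      card_invol := by rw [hinv, hK']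
      two_elt_mem := h2elt }
  intro s hs t ht hs1 ht1
  have hsQ : s ∈ Q := (mem_Zs.1 hs).1
  have htQ : t ∈ Q := (mem_Zs.1 ht).1
  have hs2 : s * s = 1 := ((hiQ s hsQ).2 ⟨hs1, hs⟩).2
  have ht2 : t * t = 1 := ((hiQ t htQ).2 ⟨ht1, ht⟩).2
  have hos : orderOf s = 2 := orderOf_eq_prime (by rw [sq]; exact hs2) hs1
  have hot : orderOf t = 2 := orderOf_eq_prime (by rw [sq]; exact ht2) ht1
  exact hKtr s hsQ t htQ hos hot

/-- A second point exists. -/
theorem exists_second_point {a : Ω} {Q : Subgroup G} (h : ZT a Q) : ∃ b : Ω, a ≠ b := by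
  classical
  obtain ⟨-, hΩ, -⟩ := Cfsg.Agent.Helper41.SzOrd.A1_base h
  have hcard : 1 < Fintype.card Ω := by
    rw [← Nat.card_eq_fintype_card, hΩ]
    have : 0 < Nat.card Q := Nat.card_pos
    omega
  obtain ⟨b, hba⟩ := Fintype.exists_ne_of_one_lt_card hcard a
  exact ⟨b, Ne.symm hba⟩

section B

variable {a b : Ω} {Q : Subgroup G} {q n : ℕ}

/-- (BPAT) the pattern (helper57's `BPAT_of` fed with the other pieces). -/
theorem BPAT (F : ZTFacts a b Q q n) (hN : Nat.card Q = q ^ 2) :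
    (q + 1 ∣ q ^ 2 + 1) ∨ (2 * q + 1 ∣ q ^ 2 + 1) ∨
      ∃ w w' : ℕ, w ∣ q ^ 2 + 1 ∧ w' ∣ q ^ 2 + 1 ∧ w + w' = 2 * q + 2 :=
  Cfsg.Agent.Helper57.SzOrd.BPAT_of F hN Orb
    (Cfsg.Agent.Helper2.SzOrd.BEL F).2.2.2.2.2
    (fun u hu => (Cfsg.Agent.Helper97.SzOrd.BT1 F u hu).2.2.2.2)
    (fun u hu => Cfsg.Agent.Helper57.SzOrd.BT2 F hN u hu)
    (Cfsg.Agent.Helper81.SzOrd.BPAIR F)
    (fun u hu => Cfsg.Agent.Helper23.SzOrd.BORB F u hu)

/-- Part B: `|Q| = q²` forces `n` odd. -/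
theorem partB (F : ZTFacts a b Q q n) (hN : Nat.card Q = q ^ 2) : Odd n :=
  odd_of_pattern n q F.hn F.hq (BPAT F hN)

end B

end Cfsg.Agent.Helper95.SzOrd
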