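import Cfsg.Agent.S0727
import Cfsg.Agent.S0728

/-!
# Sharply triply transitive groups of degree `2^f + 1` in abstract-action form (helper95)

Transport of S0727 from subgroups of `Equiv.Perm Ω` to faithful actions, used for S0340.
-/

set_option autoImplicit false

namespace Cfsg.Agent.Helper95.SzOrd

open MulAction

variable {G Ω : Type*} [Group G] [MulAction G Ω]

/-- In a sharply triply transitive group the two-point stabiliser has `|Ω| - 2` elements. -/
theorem card_two_point_stab_of_sharp3 [Fintype Ω]
    (h3 : IsMultiplyPretransitive G Ω 3) (hsharp : ∀ t : Fin 3 ↪ Ω, stabilizer G t = ⊥)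
    {a b c : Ω} (hab : a ≠ b) (hac : a ≠ c) (hbc : b ≠ c) :
    Nat.card ↥(stabilizer G a ⊓ stabilizer G b) + 2 = Fintype.card Ω := by
  classical
  have hbij : Function.Bijective
      (fun k : ↥(stabilizer G a ⊓ stabilizer G b) =>
        (⟨(k : G) • c, by
          have hka : (k : G) • a = a := k.2.1
          have hkb : (k : G) • b = b := k.2.2
          constructor
          · intro h
            exact hac (MulAction.injective (k : G) (h.trans hka.symm)).symm
          · intro h
            exact hbc (MulAction.injective (k : G) (h.trans hkb.symm)).symm⟩ : {x : Ω // x ≠ a ∧ x ≠ b})) := by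
    constructor
    · intro k k' h
      have h' : (k : G) • c = (k' : G) • c := congrArg Subtype.val h
      have hka : (k : G) • a = a := k.2.1
      have hkb : (k : G) • b = b := k.2.2
      have hka' : (k' : G) • a = a := k'.2.1
      have hkb' : (k' : G) • b = b := k'.2.2
      have h1 : ((k : G)⁻¹ * (k' : G)) = 1 := by
        apply Cfsg.Agent.S0728.eq_one_of_fix3 hsharp hab hac hbc
        · rw [mul_smul, hka', inv_smul_eq_iff, hka]
        · rw [mul_smul, hkb', inv_smul_eq_iff, hkb]
        · rw [mul_smul, ← h', inv_smul_smul]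
      apply Subtype.ext
      have : (k' : G) = (k : G) * ((k : G)⁻¹ * (k' : G)) := by group
      rw [this, h1, mul_one]
    · rintro ⟨x, hxa, hxb⟩
      obtain ⟨g, hga, hgb, hgc⟩ := Cfsg.Agent.S0728.exists_map3 h3 hab hac hbc hab
        (Ne.symm hxa) (Ne.symm hxb)
      exact ⟨⟨g, hga, hgb⟩, Subtype.ext hgc⟩
  rw [Nat.card_congr (Equiv.ofBijective _ hbij), Nat.card_eq_fintype_card, Fintype.card_subtype]
  have hfil : (Finset.univ.filter fun x : Ω => x ≠ a ∧ x ≠ b)
      = (Finset.univ.erase a).erase b := by
    ext x; simp [and_comm]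
  rw [hfil, Finset.card_erase_of_mem (by simp [Ne.symm hab]),
    Finset.card_erase_of_mem (Finset.mem_univ a), Finset.card_univ]
  have h3c : 3 ≤ Fintype.card Ω := by
    have := Finset.card_le_univ ({a, b, c} : Finset Ω)
    rw [Finset.card_insert_of_notMem (by simp [hab, hac]),
      Finset.card_insert_of_notMem (by simp [hbc]), Finset.card_singleton] at this
    exact this
  omega

/-- A faithful sharply triply transitive action of degree `2^f + 1` is that of `PSL₂(2^f)`. -/
theorem exists_psl_of_sharp3 [Fintype Ω] [FaithfulSMul G Ω] {f : ℕ} (hf : 1 ≤ f)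
    (hα : Fintype.card Ω = 2 ^ f + 1)
    (h3 : IsMultiplyPretransitive G Ω 3) (hsharp : ∀ t : Fin 3 ↪ Ω, stabilizer G t = ⊥) :
    ∃ (F : Type) (_ : Field F) (_ : Fintype F),
      Nonempty (G ≃* Matrix.ProjectiveSpecialLinearGroup (Fin 2) F) := by
  classical
  let R : Subgroup (Equiv.Perm Ω) := (MulAction.toPermHom G Ω).range
  let e0 : G ≃* R := MonoidHom.ofInjective (f := MulAction.toPermHom G Ω) MulAction.toPerm_injective
  have he0 : ∀ (g : G) (x : Ω), (e0 g : R) • x = g • x := by
    intro g x
    rfl
  have h3' : IsMultiplyPretransitive R Ω 3 := by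
    refine ⟨fun x y => ?_⟩
    obtain ⟨g, hg⟩ := h3.exists_smul_eq x y
    refine ⟨e0 g, ?_⟩
    ext i
    have := DFunLike.congr_fun hg i
    rw [Function.Embedding.smul_apply] at this ⊢
    rw [he0]
    exact this
  have hsharp' : ∀ x : Fin 3 ↪ Ω, stabilizer R x = ⊥ := by
    intro x
    rw [eq_bot_iff]
    intro r hr
    rw [Subgroup.mem_bot]
    obtain ⟨g, rfl⟩ := e0.surjective r
    have hg : g ∈ stabilizer G x := by
      rw [mem_stabilizer_iff] at hr ⊢
      ext i
      have this : (e0 g : R) • x i = x i := DFunLike.congr_fun hr i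
      rw [he0] at this
      rw [Function.Embedding.smul_apply]
      exact this
    rw [hsharp x, Subgroup.mem_bot] at hg
    rw [hg, map_one]
  obtain ⟨F, i1, i2, hFc, ⟨e1⟩⟩ := Cfsg.Agent.S0727.result hf hα R h3' hsharp'
  have heven : Even (Fintype.card F) := by
    rw [hFc]
    exact Nat.even_pow.2 ⟨even_two, by omega⟩
  obtain ⟨e2⟩ := Cfsg.Agent.S0727.nonempty_psl_equiv_pgl heven
  exact ⟨F, i1, i2, ⟨(e0.trans e1).trans e2.symm⟩⟩

end Cfsg.Agent.Helper95.SzOrd
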